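import Mathlib
import Cfsg.Prelude.Def_GeometricClasses
import Cfsg.Agent.Lib.Helper27.ASC.Defs
import Cfsg.Agent.Lib.Lead.Reindex

/-!
# Project ASCO : maximal subgroups of `Ω_r(q)`, `r` an odd prime `≥ 7`, `q` odd (S5814, S5859)

Vocabulary shared by all pieces.  The vocabulary of project ASC (`NormalIn`, `Irr`, `AbsIrr`, `centAlg`,
`AllNormalAbsIrr`, `MinNonscalar`, `max_principle`, ...) is reused through
`Cfsg.Agent.Lib.Helper27.ASC.Defs`.
-/

set_option autoImplicit false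

namespace Cfsg.Agent.Lib.Helper25.ASCO

open Cfsg Cfsg.Geo
open scoped MatrixGroups Matrix

variable {ι : Type} [Fintype ι] [DecidableEq ι] {F : Type*} [Field F]

/-- class 1a : stabiliser of a non-zero totally singular subspace -/
def ClassTS (Q : (ι → F) → F) (H : Subgroup (GL ι F)) : Prop :=
  ∃ W : Submodule F (ι → F), W ≠ ⊥ ∧ IsTotallySingularQuad Q W ∧ H = subspaceStabilizer W ⊓ omegaGL Q

/-- class 1b : stabiliser of a non-zero non-degenerate subspace of even dimension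
(not a plus-type plane when `q = 3`) -/
def ClassND [Fintype F] (Q : (ι → F) → F) (H : Subgroup (GL ι F)) : Prop :=
  ∃ W : Submodule F (ι → F), W ≠ ⊥ ∧ Even (Module.finrank F W) ∧
    IsNondegenerateOn (QuadraticMap.polar Q) W ∧
    ¬ (Fintype.card F = 3 ∧ Module.finrank F W = 2 ∧ IsPlusTypeOn Q W) ∧
    H = subspaceStabilizer W ⊓ omegaGL Q

/-- class 2 : `q` prime, stabiliser of an orthogonal frame of `t` isometric non-degenerate lines -/
def ClassFR [Fintype F] (t : ℕ) (Q : (ι → F) → F) (H : Subgroup (GL ι F)) : Prop :=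
  (Fintype.card F).Prime ∧ ∃ D : Fin t → Submodule F (ι → F),
    IsOrthogonalMDecomposition Q 1 D ∧ H = decompositionStabilizer D ⊓ omegaGL Q

/-- class 5 : subfield group whose `F₀`-structure carries `Q` -/
def ClassSF [Fintype F] (Q : (ι → F) → F) (H : Subgroup (GL ι F)) : Prop :=
  ∃ (F₀ : Subfield F) (ℓ : ℕ) (P : GL ι F), ℓ.Prime ∧ Fintype.card F = Nat.card F₀ ^ ℓ ∧
    IsQuadFormRationalStructure Q F₀ P ∧ H = subfieldSubgroup F₀ P ⊓ omegaGL Q

/-- The conclusion of S5814 / S5859 for a quadratic form `Q` on `F^ι` and frames of `t` lines. -/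
def ConclO [Fintype F] (t : ℕ) (Q : (ι → F) → F) (H : Subgroup (GL ι F)) : Prop :=
  ClassTS Q H ∨ ClassND Q H ∨ ClassFR t Q H ∨ ClassSF Q H ∨ InOrthogonalResidualClass H

/-- the discriminant of `Q` (determinant of the Gram matrix of the polar form) is `±2` times a
non-zero square -/
def DiscPM2 (Q : (ι → F) → F) : Prop :=
  ∃ c : F, c ≠ 0 ∧ ((gramMatrix (QuadraticMap.polar Q)).det = 2 * c ^ 2 ∨
    (gramMatrix (QuadraticMap.polar Q)).det = -(2 * c ^ 2))

/-- `G` contains a root group `{1 + a N}` with `N ≠ 0`, `N² = 0`. -/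
def HasRootGroup (G : Subgroup (GL ι F)) : Prop :=
  ∃ N : Matrix ι ι F, N ≠ 0 ∧ N * N = 0 ∧ ∀ a : F, ∃ g ∈ G, (g : Matrix ι ι F) = 1 + a • N

end Cfsg.Agent.Lib.Helper25.ASCO
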